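import Groth.Agent.Lib.GeomFF26.Expansion

/-! # The different exponent at a totally ramified place -/

set_option autoImplicit false
set_option linter.style.haveILetI false

namespace Groth.Agent.DiffExp28

open FunFld WithZero Polynomial GeomFF26
open scoped Multiplicative

universe u v w

variable {k : Type u} {K K' : Type v} [Field k] [Field K] [Field K'] [Algebra k K] [Algebra K K'] [Algebra k K']

/-- The terms of a polynomial of degree `< e` in a uniformizer of index `e` have distinct values. -/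
theorem le_val_aeval {P : Place k K} {Q : Place k K'} {e : ℕ} (he : IsOverWith Q P e) {s : K'}
    (hs : Q.1 s = exp (-1 : ℤ)) {g : K[X]} (hg : g.natDegree < e) :
    (∀ i ∈ Finset.range e, P.1 (g.coeff i) ^ e * exp (-(i : ℤ)) ≤ Q.1 (aeval s g)) ∧
    ∃ i ∈ Finset.range e, P.1 (g.coeff i) ^ e * exp (-(i : ℤ)) = Q.1 (aeval s g) := by
  classical
  have hterm : ∀ i : ℕ, Q.1 (algebraMap K K' (g.coeff i) * s ^ i) = P.1 (g.coeff i) ^ e * exp (-(i : ℤ)) := by
    intro i
    rw [map_mul, map_pow, he, hs, ← exp_nsmul, nsmul_eq_mul, mul_neg_one]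
  have hsum : aeval s g = ∑ i ∈ Finset.range e, algebraMap K K' (g.coeff i) * s ^ i := by
    rw [aeval_eq_sum_range' hg]
    simp [Algebra.smul_def]
  obtain ⟨j, hj, hmax⟩ := Finset.exists_max_image (Finset.range e)
    (fun i => P.1 (g.coeff i) ^ e * exp (-(i : ℤ))) ⟨0, Finset.mem_range.2 (by omega)⟩
  have key : Q.1 (aeval s g) = P.1 (g.coeff j) ^ e * exp (-(j : ℤ)) := by
    by_cases h0 : P.1 (g.coeff j) ^ e * exp (-(j : ℤ)) = 0
    · rw [h0]
      refine le_antisymm ?_ bot_le
      rw [hsum]
      exact Q.1.map_sum_le fun i hi => (hterm i).le.trans ((hmax i hi).trans h0.le)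
    · rw [hsum, Valuation.map_sum_eq_of_lt _ hj fun i hi => ?_, hterm]
      rw [Finset.mem_sdiff, Finset.mem_singleton] at hi
      rw [hterm, hterm]
      refine lt_of_le_of_ne (hmax i hi.1) fun heq => hi.2 ?_
      have hi0 : P.1 (g.coeff i) ≠ 0 := fun hz => h0 (by
        rw [← heq, hz, zero_pow (by omega : e ≠ 0), zero_mul])
      have hj0 : P.1 (g.coeff j) ≠ 0 := fun hz => h0 (by rw [hz, zero_pow (by omega : e ≠ 0), zero_mul])
      obtain ⟨a, ha⟩ := ne_zero_iff_exists.1 hi0
      obtain ⟨b, hb⟩ := ne_zero_iff_exists.1 hj0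
      have h2 := congrArg log heq
      simp only [log_mul (pow_ne_zero _ hi0) exp_ne_zero, log_mul (pow_ne_zero _ hj0) exp_ne_zero, log_pow, log_exp,
        nsmul_eq_mul] at h2
      have h3 : (e : ℤ) * (log (P.1 (g.coeff i)) - log (P.1 (g.coeff j))) = (i : ℤ) - j := by linarith
      have hie : i < e := Finset.mem_range.1 hi.1
      have hje : j < e := Finset.mem_range.1 hj
      have h4 : log (P.1 (g.coeff i)) - log (P.1 (g.coeff j)) = 0 := by
        by_contra hne
        rcases lt_or_gt_of_ne hne with h5 | h5 <;> nlinarith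
      rw [h4, mul_zero] at h3
      omega
  exact ⟨fun i hi => key ▸ hmax i hi, j, hj, key.symm⟩

theorem le_exp_neg_one_of_pow_mul_le {x : WithZero (Multiplicative ℤ)} {e i : ℕ} (hi : i < e)
    (h : x ^ e * exp (-(i : ℤ)) ≤ exp (-(e : ℤ))) : x ≤ exp (-1 : ℤ) := by
  by_cases hx : x = 0
  · rw [hx]; exact bot_le
  · have h2 := (log_le_log (mul_ne_zero (pow_ne_zero _ hx) exp_ne_zero) exp_ne_zero).2 h
    rw [log_mul (pow_ne_zero _ hx) exp_ne_zero, log_pow, log_exp, log_exp, nsmul_eq_mul] at h2
    rw [← exp_log hx, exp_le_exp]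
    by_contra hlt
    push Not at hlt
    nlinarith

/-- The minimal polynomial of a uniformizer at a totally ramified place is Eisenstein. -/
theorem eisenstein [FiniteDimensional K K'] {P : Place k K} {Q : Place k K'} {e : ℕ} (he : IsOverWith Q P e)
    (hn : e = Module.finrank K K') {s : K'} (hs : Q.1 s = exp (-1 : ℤ)) :
    (minpoly K s).natDegree = e ∧ P.1 ((minpoly K s).coeff 0) = exp (-1 : ℤ) ∧
      ∀ i < e, P.1 ((minpoly K s).coeff i) ≤ exp (-1 : ℤ) := by
  have hepos : 0 < e := hn ▸ Module.finrank_pos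
  have hint : IsIntegral K s := Algebra.IsIntegral.isIntegral s
  set f := minpoly K s with hfdef
  have hm : f.Monic := minpoly.monic hint
  have hdeg : f.natDegree = e := by
    refine le_antisymm (hn ▸ minpoly.natDegree_le s) (le_of_not_gt fun hlt => ?_)
    have h := (le_val_aeval he hs hlt).1 f.natDegree (Finset.mem_range.2 hlt)
    rw [minpoly.aeval, map_zero, hm.coeff_natDegree, map_one, one_pow, one_mul] at h
    exact exp_ne_zero (le_antisymm h bot_le)
  let g := f - X ^ e
  have hgdeg : g.natDegree < e := by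
    rw [Polynomial.natDegree_lt_iff_degree_lt]
    · calc g.degree < f.degree := by
            refine degree_sub_lt ?_ hm.ne_zero ?_
            · rw [degree_X_pow, degree_eq_natDegree hm.ne_zero, hdeg]
            · rw [hm.leadingCoeff, leadingCoeff_X_pow]
        _ = e := by rw [degree_eq_natDegree hm.ne_zero, hdeg]
    · intro hg0
      have h1 : aeval s f = 0 := minpoly.aeval K s
      rw [sub_eq_zero.1 hg0, map_pow, aeval_X] at h1
      have := pow_eq_zero_iff hepos.ne' |>.1 h1
      rw [this, map_zero] at hs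
      exact exp_ne_zero hs.symm
  have hgc : ∀ i < e, g.coeff i = f.coeff i := fun i hi => by
    simp [g, coeff_X_pow, hi.ne]
  have hv : Q.1 (aeval s g) = exp (-(e : ℤ)) := by
    rw [show aeval s g = -(s ^ e) by simp [g, hfdef, minpoly.aeval], Valuation.map_neg, map_pow, hs, ← exp_nsmul,
      nsmul_eq_mul, mul_neg_one]
  obtain ⟨hle, j, hj, hjeq⟩ := le_val_aeval he hs hgdeg
  rw [hv] at hle hjeq
  have hall : ∀ i < e, P.1 (f.coeff i) ≤ exp (-1 : ℤ) := fun i hi =>
    le_exp_neg_one_of_pow_mul_le hi (by rw [← hgc i hi]; exact hle i (Finset.mem_range.2 hi))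
  refine ⟨hdeg, ?_, hall⟩
  have hje : j < e := Finset.mem_range.1 hj
  have hx : P.1 (g.coeff j) ≠ 0 := fun hz => by
    rw [hz, zero_pow hepos.ne', zero_mul] at hjeq
    exact exp_ne_zero hjeq.symm
  have h2 := congrArg log hjeq
  rw [log_mul (pow_ne_zero _ hx) exp_ne_zero, log_pow, log_exp, log_exp, nsmul_eq_mul] at h2
  have h3 : (e : ℤ) * (log (P.1 (g.coeff j)) + 1) = j := by linarith
  have h4 : log (P.1 (g.coeff j)) + 1 = 0 := by
    rcases lt_trichotomy (log (P.1 (g.coeff j)) + 1) 0 with h5 | h5 | h5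
    · nlinarith
    · exact h5
    · nlinarith
  obtain rfl : j = 0 := by
    rw [h4, mul_zero] at h3
    omega
  rw [← hgc 0 hje, ← exp_log hx, show log (P.1 (g.coeff 0)) = -1 by omega]

/-- At a totally ramified place, the different exponent is the order of the derivative of the Eisenstein
polynomial of a uniformizer. -/
theorem ord_derivative_eq_diffExp [IsScalarTower k K K'] [FiniteDimensional K K'] {F : Type w} [Field F]
    [Algebra k F] {F' : Type w} [Field F'] [Algebra k F'] (h : FunFld.IsFunctionField k K) (hg : IsGeometric k K)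
    {P : Place k K} {Q : Place k K'} {e : ℕ} (he : IsOverWith Q P e)
    {φ : K →ₐ[k] LaurentSeries F} (hφ : LocRes.IsExpansionAt P.1 φ)
    {ψ : K' →ₐ[k] LaurentSeries F'} (hψ : LocRes.IsExpansionAt Q.1 ψ)
    {x : K} (hx : LocRes.vDiff φ 1 x ≠ 0) (hx' : LocRes.vDiff ψ 1 (algebraMap K K' x) ≠ 0)
    (hn : e = Module.finrank K K') {s : K'} (hs : Q.1 s = exp (-1 : ℤ)) :
    Q.ord (aeval s (derivative (minpoly K s))) = LocRes.diffExp φ ψ e x := by
  obtain ⟨t, ht⟩ := hφ.2.2
  have h1 := vDiff_uniformizer hφ ht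
  obtain ⟨hne, hind⟩ := diffExp_independent h.1 hg he hφ hψ hx (x' := t) (by rw [h1]; exact one_ne_zero) hx'
  have hsep := (sep_iff_D_ne_zero h.1 hg t).2
    (D_ne_zero_of_D_map φ (D_ne_zero_of_vDiff (φ := φ) (x := t) (by rw [h1]; exact one_ne_zero)))
  obtain ⟨hdeg, h0, hall⟩ := eisenstein he hn hs
  set f := minpoly K s
  let d : K → K := fun a => Classical.choose (exists_chain.{u, v, w} hsep a)
  have hc' : ∀ a : K, LocRes.D F' (ψ (algebraMap K K' a)) =
      ψ (algebraMap K K' (d a)) * LocRes.D F' (ψ (algebraMap K K' t)) := fun a => by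
    have := Classical.choose_spec (exists_chain.{u, v, w} hsep a) (ψ.comp (IsScalarTower.toAlgHom k K K'))
    simpa only [AlgHom.comp_apply, IsScalarTower.toAlgHom_apply] using this
  have hd : ∀ a : K, Valued.v (LocRes.D F (φ a)) = P.1 (d a) := fun a => by
    rw [Classical.choose_spec (exists_chain.{u, v, w} hsep a) φ, map_mul, ← vDiff_one, h1, mul_one, hφ.1]
  let δ : K' → LaurentSeries F' := fun y => LocRes.D F' (ψ y)
  have hadd : ∀ y z, δ (y + z) = δ y + δ z := fun y z => by simp only [δ, map_add]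
  have hmul : ∀ y z, δ (y * z) = ψ y * δ z + ψ z * δ y := fun y z => D_map_mul ψ y z
  have hpow : ∀ (n : ℕ), δ (s ^ n) = ψ ((n : K') * s ^ (n - 1)) * δ s := by
    intro n
    induction n with
    | zero =>
      rw [pow_zero, Nat.cast_zero, zero_mul, map_zero, zero_mul]
      show LocRes.D F' (ψ 1) = 0
      rw [map_one, Derivation.map_one_eq_zero]
    | succ n ih =>
      rw [pow_succ, hmul, ih]
      cases n with
      | zero => simp
      | succ m => simp only [Nat.add_sub_cancel, Nat.cast_succ, map_mul, map_add, map_one, map_pow]; ring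
  -- the differential of a polynomial in `s`
  have hpoly : ∀ g : K[X], δ (aeval s g) = ψ (aeval s (derivative g)) * δ s +
      ψ (∑ i ∈ Finset.range (g.natDegree + 1), algebraMap K K' (d (g.coeff i)) * s ^ i) *
        δ (algebraMap K K' t) := by
    intro g
    have e1 : aeval s g = ∑ i ∈ Finset.range (g.natDegree + 1), algebraMap K K' (g.coeff i) * s ^ i := by
      rw [aeval_eq_sum_range]; simp [Algebra.smul_def]
    have e2 : aeval s (derivative g) =
        ∑ i ∈ Finset.range (g.natDegree + 1), algebraMap K K' (g.coeff i) * ((i : K') * s ^ (i - 1)) := by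
      conv_lhs => rw [g.as_sum_range' (g.natDegree + 1) (Nat.lt_succ_self _)]
      rw [map_sum, map_sum]
      refine Finset.sum_congr rfl fun i _ => ?_
      rw [derivative_monomial, aeval_monomial, map_mul, map_natCast, mul_assoc]
    rw [e1, e2]
    simp only [δ, map_sum, Finset.sum_mul, ← Finset.sum_add_distrib]
    refine Finset.sum_congr rfl fun i _ => ?_
    have := hmul (algebraMap K K' (g.coeff i)) (s ^ i)
    simp only [δ] at this
    rw [this]
    have h' := hpow i
    simp only [δ] at h'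
    rw [h', hc' (g.coeff i)]
    simp only [map_mul]
    ring
  have hz := hpoly f
  rw [minpoly.aeval] at hz
  have hδ0 : δ 0 = 0 := by simp [δ]
  rw [hδ0, hdeg] at hz
  set σ : K' := ∑ i ∈ Finset.range (e + 1), algebraMap K K' (d (f.coeff i)) * s ^ i with hσ
  have hepos : 0 < e := hn ▸ Module.finrank_pos
  have hd0 : ∀ i < e, P.1 (d (f.coeff i)) ≤ 1 := fun i hi => by
    rw [← hd]
    simpa using val_D_le (φ (f.coeff i)) (n := 1) (by rw [hφ.1]; exact hall i hi)
  have hd00 : P.1 (d (f.coeff 0)) = 1 := by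
    rw [← hd, (val_D_of_val_eq (φ (f.coeff 0)) (n := 1) ((hφ.1 _).trans h0)).1 (by simp)]
    simp
  have hde : P.1 (d (f.coeff e)) = 0 := by
    rw [← hd, ← hdeg, (minpoly.monic (Algebra.IsIntegral.isIntegral s)).coeff_natDegree, map_one,
      Derivation.map_one_eq_zero, map_zero]
  have hσv : Q.1 σ = 1 := by
    classical
    have hterm : ∀ i : ℕ, Q.1 (algebraMap K K' (d (f.coeff i)) * s ^ i) = P.1 (d (f.coeff i)) ^ e * exp (-(i : ℤ)) := by
      intro i
      rw [map_mul, map_pow, he, hs, ← exp_nsmul, nsmul_eq_mul, mul_neg_one]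
    rw [hσ, Valuation.map_sum_eq_of_lt _ (j := 0) (Finset.mem_range.2 (by omega)) fun i hi => ?_, hterm, hd00]
    · simp
    rw [Finset.mem_sdiff, Finset.mem_singleton, Finset.mem_range] at hi
    rw [hterm, hterm, hd00, one_pow, one_mul, Nat.cast_zero, neg_zero, exp_zero]
    rcases eq_or_lt_of_le (Nat.le_of_lt_succ hi.1) with rfl | hlt
    · rw [hde, zero_pow hepos.ne', zero_mul]; exact zero_lt_one
    · refine lt_of_le_of_lt (mul_le_of_le_one_left zero_le (pow_le_one₀ zero_le (hd0 i hlt))) ?_
      rw [← exp_zero, exp_lt_exp]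
      omega
  have hδs : Valued.v (δ s) = 1 := (vDiff_one ψ s).symm.trans (vDiff_uniformizer hψ hs)
  have hmain : Q.1 (aeval s (derivative f)) = Valued.v (δ (algebraMap K K' t)) := by
    have h3 := congrArg Valued.v (eq_neg_of_add_eq_zero_left hz.symm)
    rw [Valuation.map_neg, map_mul, map_mul, hψ.1, hψ.1, hδs, mul_one, hσv, one_mul] at h3
    exact h3
  rw [hind, LocRes.diffExp, LocRes.ordDiff, LocRes.ordDiff, h1, log_one, neg_zero, mul_zero, sub_zero, vDiff_one,
    Place.ord, hmain]

end Groth.Agent.DiffExp28
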