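import Groth.Agent.Lib.DiffExp28.Res1
import Groth.Agent.Lib.GeomFF26.SepPlace
import Groth.Agent.Lib.FunField.Ramif26

/-! # The different exponent by ramification groups -/

set_option autoImplicit false
set_option linter.style.haveILetI false

namespace Groth.Agent.DiffExp28

open FunFld WithZero Polynomial GeomFF26 FunField
open scoped Multiplicative

universe u v w

section sep

variable {k : Type u} {K : Type v} [Field k] [Field K] [Algebra k K] {F : Type w} [Field F] [Algebra k F]
  {wv : Valuation K (WithZero (Multiplicative ℤ))} {φ : K →ₐ[k] LaurentSeries F}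

/-- Separability of the coefficient field, from a separating element. -/
theorem isSeparable_of_sep [FiniteDimensional k F] (hφ : LocRes.IsExpansionAt wv φ) {x : K}
    (hx : Wronskian26.Sep k x) (hgx : LocRes.D F (φ x) ≠ 0) : Algebra.IsSeparable k F := by
  have hder : ∀ (d : Derivation k F F) (a : F), d a = 0 := by
    intro d a
    letI := φ.toRingHom.toAlgebra
    haveI : IsScalarTower k K (LaurentSeries F) := LocRes.isScalarTower_exp φ
    have hC : ∀ c : F, mapCoeff d (HahnSeries.C c) = HahnSeries.C (d c) := fun c => by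
      ext n
      rw [mapCoeff_coeff, HahnSeries.C_apply, HahnSeries.C_apply, HahnSeries.coeff_single, HahnSeries.coeff_single]
      split <;> simp
    let δ : Derivation k K (LaurentSeries F) := Derivation.mk'
      { toFun := fun y => mapCoeff d (φ y)
        map_add' := fun y z => by ext n; simp [mapCoeff_coeff]
        map_smul' := fun c y => by
          show mapCoeff d (φ (c • y)) = c • mapCoeff d (φ y)
          rw [Algebra.smul_def, map_mul, mapCoeff_mul, LocRes.map_algebraMap, hC, Derivation.map_algebraMap,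
            map_zero, mul_zero, add_zero, HahnSeries.C_mul_eq_smul, algebraMap_smul] }
      fun y z => by
        show mapCoeff d (φ (y * z)) = φ y * mapCoeff d (φ z) + φ z * mapCoeff d (φ y)
        rw [map_mul, mapCoeff_mul]
    set R := δ x / LocRes.D F (φ x)
    have hrel : ∀ y, δ y = LocRes.D F (φ y) * R := by
      intro y
      obtain ⟨c, hc⟩ := Submodule.mem_span_singleton.1
        (show KaehlerDifferential.D k K y ∈ Submodule.span K {KaehlerDifferential.D k K x} by rw [hx]; trivial)
      have h1 := congrArg δ.liftKaehlerDifferential hc.symm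
      have h2 := congrArg (LocRes.dExp φ).liftKaehlerDifferential hc.symm
      rw [map_smul, Derivation.liftKaehlerDifferential_comp_D, Derivation.liftKaehlerDifferential_comp_D] at h1 h2
      change δ y = φ c * δ x at h1
      change LocRes.D F (φ y) = φ c * LocRes.D F (φ x) at h2
      rw [h1, h2, mul_assoc, mul_div_cancel₀ _ hgx]
    obtain ⟨m, hm⟩ : ∃ m : ℕ, Valued.v R ≤ exp (m : ℤ) := by
      rcases eq_or_ne (Valued.v R) 0 with h0 | h0
      · exact ⟨0, by rw [h0]; exact zero_le⟩
      · exact ⟨(WithZero.log (Valued.v R)).toNat, by rw [← log_le_iff_le_exp h0]; omega⟩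
    obtain ⟨y, hy⟩ := exists_approx hφ (HahnSeries.C a) (m + 2 : ℤ)
    have hylow := (LaurentSeries.valuation_le_iff_coeff_lt_eq_zero F).1 hy
    have e1 : Valued.v (δ y) ≤ exp (-(1 : ℤ)) := by
      rw [hrel]
      have hd : Valued.v (LocRes.D F (φ y)) ≤ exp (-((m : ℤ) + 2 - 1)) := by
        have := val_D_le _ hy
        rwa [map_sub, LocRes.D_apply F (HahnSeries.C a), LocRes.derivative_C, sub_zero] at this
      rw [map_mul]
      refine (mul_le_mul' hd hm).trans ?_
      rw [← exp_add, exp_le_exp]; omega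
    have e2 := (LaurentSeries.valuation_le_iff_coeff_lt_eq_zero F).1 e1 0 (by norm_num)
    have e3 := hylow (n := 0) (by omega)
    change d ((φ y).coeff 0) = 0 at e2
    rw [HahnSeries.coeff_sub, sub_eq_zero] at e3
    rw [e3] at e2
    simpa using e2
  haveI : Algebra.FormallyUnramified k F := by
    rw [Algebra.formallyUnramified_iff]
    refine (Submodule.subsingleton_iff F).1 ((subsingleton_iff_bot_eq_top).1 ?_)
    rw [← KaehlerDifferential.span_range_derivation, eq_comm, Submodule.span_eq_bot]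
    rintro _ ⟨a, rfl⟩
    exact (Module.forall_dual_apply_eq_zero_iff F _).1 fun l => hder (l.compDer (KaehlerDifferential.D k F)) a
  exact Algebra.FormallyUnramified.isSeparable _ _

end sep

variable {k : Type u} {K K' : Type v} [Field k] [Field K] [Field K'] [Algebra k K] [Algebra K K'] [Algebra k K']
  [IsScalarTower k K K'] [FiniteDimensional K K'] {F : Type w} [Field F] [Algebra k F]
  {F' : Type w} [Field F'] [Algebra k F'] {P : Place k K} {Q : Place k K'} {e : ℕ}
  {φ : K →ₐ[k] LaurentSeries F} {ψ : K' →ₐ[k] LaurentSeries F'} {x : K}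

theorem sep_algebraMap [Algebra.IsSeparable K K'] (hx : Wronskian26.Sep k x) :
    Wronskian26.Sep k (algebraMap K K' x) := by
  haveI : Algebra.FormallyUnramified K K' := Algebra.FormallyUnramified.of_isSeparable K K'
  refine eq_top_iff.2 fun z hz => ?_
  clear hz
  obtain ⟨w, rfl⟩ := (KaehlerDifferential.exact_mapBaseChange_map k K K' z).1 (Subsingleton.elim _ _)
  induction w using TensorProduct.induction_on with
  | zero => rw [map_zero]; exact zero_mem _
  | add a b ha hb => rw [map_add]; exact add_mem ha hb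
  | tmul c m =>
    obtain ⟨d, hd⟩ := Submodule.mem_span_singleton.1
      (show m ∈ Submodule.span K {KaehlerDifferential.D k K x} by rw [hx]; trivial)
    rw [KaehlerDifferential.mapBaseChange_tmul, ← hd, map_smul, KaehlerDifferential.map_D,
      ← algebraMap_smul K' d (KaehlerDifferential.D k K' (algebraMap K K' x)), smul_smul]
    exact Submodule.smul_mem _ _ (Submodule.mem_span_singleton_self _)

theorem coeff_zero_mul {f g : LaurentSeries F'} (hf : Valued.v f ≤ 1) (hg : Valued.v g ≤ 1) :
    (f * g).coeff 0 = f.coeff 0 * g.coeff 0 := by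
  obtain ⟨a, rfl⟩ := (LaurentSeries.val_le_one_iff_eq_coe F' f).1 hf
  obtain ⟨b, rfl⟩ := (LaurentSeries.val_le_one_iff_eq_coe F' g).1 hg
  have h0 : ∀ c : PowerSeries F', (c : LaurentSeries F').coeff 0 = PowerSeries.constantCoeff c := fun c => by
    rw [PowerSeries.coeff_coe, if_neg (lt_irrefl 0), Int.natAbs_zero, PowerSeries.coeff_zero_eq_constantCoeff_apply]
  rw [← PowerSeries.coe_mul, h0, h0, h0, map_mul]

/-- The residue field of a place with an expansion is separable over the constants. -/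
theorem isSeparable_residueField [Algebra.IsSeparable K K'] (h : FunField.FF k K) (hg : IsGeometric k K)
    (hψ : LocRes.IsExpansionAt Q.1 ψ) (hx : LocRes.vDiff φ 1 x ≠ 0)
    (hx' : LocRes.vDiff ψ 1 (algebraMap K K' x) ≠ 0) :
    Algebra.IsSeparable k (IsLocalRing.ResidueField Q.O) := by
  haveI : Module.Finite k (IsLocalRing.ResidueField Q.O) := (ff_extend (K' := K') h).finite_residueField Q
  let c0 : Q.O →+* F' :=
    { toFun := fun a => (ψ a.1).coeff 0
      map_one' := by show (ψ 1).coeff 0 = 1; rw [map_one]; simp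
      map_mul' := fun a b => by
        show (ψ (a.1 * b.1)).coeff 0 = _
        rw [map_mul]
        exact coeff_zero_mul ((hψ.1 _).trans_le a.2) ((hψ.1 _).trans_le b.2)
      map_zero' := by show (ψ 0).coeff 0 = 0; rw [map_zero]; rfl
      map_add' := fun a b => by show (ψ (a.1 + b.1)).coeff 0 = _; rw [map_add]; rfl }
  have hker : ∀ a : Q.O, IsLocalRing.residue Q.O a = 0 → c0 a = 0 := fun a ha => by
    rw [residue_eq_zero_iff, ← hψ.1, lt_one_iff_le] at ha
    exact (LaurentSeries.valuation_le_iff_coeff_lt_eq_zero F').1 ha 0 (by norm_num)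
  let ρ : IsLocalRing.ResidueField Q.O →ₐ[k] F' :=
    { toRingHom := Ideal.Quotient.lift _ c0 fun a ha => hker a (Ideal.Quotient.eq_zero_iff_mem.2 ha)
      commutes' := fun c => by
        show (ψ (algebraMap k K' c)).coeff 0 = algebraMap k F' c
        rw [LocRes.map_algebraMap, HahnSeries.C_apply, HahnSeries.coeff_single_same] }
  haveI : FiniteDimensional k F' := by
    refine @Module.Finite.of_surjective k (IsLocalRing.ResidueField Q.O) _ _ _ k F' _ _ _ (RingHom.id k) this ρ.toLinearMap fun a => ?_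
    obtain ⟨f, hf, hfa⟩ := hψ.2.1 a
    exact ⟨IsLocalRing.residue Q.O ⟨f, hf⟩, hfa⟩
  have hsep := (sep_iff_D_ne_zero h hg x).2 (D_ne_zero_of_D_map φ (D_ne_zero_of_vDiff hx))
  haveI := isSeparable_of_sep hψ (sep_algebraMap hsep) (D_ne_zero_of_vDiff hx')
  exact Algebra.IsSeparable.of_algHom k F' ρ

theorem D_aeval_const {y : K'} (g : k[X]) :
    LocRes.D F' (ψ (aeval y g)) = ψ (aeval y (derivative g)) * LocRes.D F' (ψ y) := by
  induction g using Polynomial.induction_on' with
  | add p q hp hq => simp only [map_add, hp, hq, add_mul]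
  | monomial n a =>
    rw [derivative_monomial, aeval_monomial, aeval_monomial, D_map_mul, D_map_const, mul_zero, add_zero,
      map_mul (algebraMap k K'), map_natCast (algebraMap k K')]
    cases n with
    | zero => simp
    | succ m =>
      induction m with
      | zero => simp
      | succ m ih =>
        rw [pow_succ, D_map_mul]
        simp only [map_mul, map_pow, map_natCast, Nat.add_sub_cancel] at ih ⊢
        rw [mul_add, show ψ (algebraMap k K' a) * (ψ y * LocRes.D F' (ψ y ^ (m + 1))) =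
          ψ y * (ψ (algebraMap k K' a) * LocRes.D F' (ψ y ^ (m + 1))) by ring, ih]
        push_cast
        ring

/-- Derivatives of the elements of the inertia field. -/
theorem val_D_inertia (hψ : LocRes.IsExpansionAt Q.1 ψ) [Algebra.IsSeparable k (IsLocalRing.ResidueField Q.O)]
    (h : FunField.FF k K) {t : K} (ht : P.1 t = exp (-1 : ℤ)) (he : IsOverWith Q P e)
    (hne : LocRes.D F' (ψ (algebraMap K K' t)) ≠ 0) (T : IntermediateField K K')
    (hT : ∀ r ∈ T, Q.1 r < 1 → Q.1 r ≤ exp (-(e : ℤ))) {a : K'} (haT : a ∈ T) (ha : Q.1 a ≤ 1) :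
    Valued.v (LocRes.D F' (ψ a)) ≤ Valued.v (LocRes.D F' (ψ (algebraMap K K' t))) := by
  classical
  have hepos := isOverWith_pos he
  have hQt : Q.1 (algebraMap K K' t) = exp (-(e : ℤ)) := by rw [he, ht, ← exp_nsmul, nsmul_eq_mul, mul_neg_one]
  have ht0 : algebraMap K K' t ≠ 0 := fun h0 => exp_ne_zero (by rw [← hQt, h0, map_zero])
  have hτ : Valued.v (ψ (algebraMap K K' t)) = exp (-(e : ℤ)) := (hψ.1 _).trans hQt
  haveI : Module.Finite k (IsLocalRing.ResidueField Q.O) := (ff_extend (K' := K') h).finite_residueField Q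
  obtain ⟨N, hN⟩ : ∃ N : ℕ, exp (-(N : ℤ)) ≤ Valued.v (LocRes.D F' (ψ (algebraMap K K' t))) := by
    have h0 : Valued.v (LocRes.D F' (ψ (algebraMap K K' t))) ≠ 0 := (Valuation.ne_zero_iff _).2 hne
    exact ⟨(-log (Valued.v (LocRes.D F' (ψ (algebraMap K K' t))))).toNat, by rw [← le_log_iff_exp_le h0]; omega⟩
  set δ := Valued.v (LocRes.D F' (ψ (algebraMap K K' t)))
  suffices H : ∀ n : ℕ, ∀ a ∈ T, Q.1 a ≤ 1 → Valued.v (LocRes.D F' (ψ a)) ≤ max δ (exp (-(n : ℤ))) by
    exact (H N a haT ha).trans (max_le le_rfl hN)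
  intro n
  induction n with
  | zero =>
    intro a _ ha
    exact (val_D_le_one (P := Q) (φ := ψ) hψ ha).trans (le_max_of_le_right (by simp))
  | succ n ih =>
    intro a haT ha
    let aO : Q.O := ⟨a, ha⟩
    set g := minpoly k (IsLocalRing.residue Q.O aO)
    have hev : ∀ p : k[X], IsLocalRing.residue Q.O (aeval aO p) = aeval (IsLocalRing.residue Q.O aO) p := fun p =>
      (aeval_algHom_apply ({ IsLocalRing.residue Q.O with commutes' := fun _ => rfl } :
        Q.O →ₐ[k] IsLocalRing.ResidueField Q.O) aO p).symm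
    have hco : ∀ p : k[X], ((aeval aO p : Q.O) : K') = aeval a p := fun p =>
      (aeval_algHom_apply ({ Q.O.subtype with commutes' := fun c => rfl } : Q.O →ₐ[k] K') aO p).symm
    have h1 : Q.1 (aeval a g) < 1 := by
      rw [← hco, ← residue_eq_zero_iff, hev, minpoly.aeval]
    have h2 : Q.1 (aeval a (derivative g)) = 1 := by
      refine le_antisymm (by rw [← hco]; exact (aeval aO (derivative g) : Q.O).2) (not_lt.1 fun hlt => ?_)
      rw [← hco, ← residue_eq_zero_iff, hev] at hlt
      exact (Algebra.IsSeparable.isSeparable k (IsLocalRing.residue Q.O aO)).aeval_derivative_ne_zero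
        (minpoly.aeval _ _) hlt
    have hrT : aeval a g ∈ T := by
      have := aeval_algHom_apply ((T.val).restrictScalars k) (⟨a, haT⟩ : T) g
      change aeval a g = ((aeval (⟨a, haT⟩ : T) g : T) : K') at this
      rw [this]; exact SetLike.coe_mem _
    set b := aeval a g / algebraMap K K' t with hb
    have hbT : b ∈ T := div_mem hrT (T.algebraMap_mem t)
    have hb1 : Q.1 b ≤ 1 := by
      rw [hb, map_div₀, hQt, div_le_one₀ exp_pos]
      exact hT _ hrT h1
    have key := D_aeval_const (ψ := ψ) (y := a) g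
    rw [show aeval a g = algebraMap K K' t * b by rw [hb, mul_div_cancel₀ _ ht0], D_map_mul] at key
    have hv := congrArg Valued.v key
    rw [map_mul (Valued.v : Valuation (LaurentSeries F') _) (ψ (aeval a (derivative g))), hψ.1, h2, one_mul] at hv
    rw [← hv]
    refine (Valuation.map_add _ _ _).trans (max_le ?_ ?_)
    · rw [map_mul, hτ]
      refine (mul_le_mul' le_rfl (ih b hbT hb1)).trans ?_
      rcases le_total δ (exp (-(n : ℤ))) with h4 | h4
      · rw [max_eq_right h4, ← exp_add]
        exact le_max_of_le_right (exp_le_exp.2 (by omega))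
      · rw [max_eq_left h4]
        exact le_max_of_le_left (mul_le_of_le_one_left zero_le (exp_neg_le_one (by omega)))
    · rw [map_mul, hψ.1]
      exact le_max_of_le_left (mul_le_of_le_one_left zero_le hb1)

theorem diffExp_eq_sum_ramGroup [IsGalois K K'] (h : FunField.FF k K) (hg : IsGeometric k K)
    (he : IsOverWith Q P e) (hφ : LocRes.IsExpansionAt P.1 φ) (hψ : LocRes.IsExpansionAt Q.1 ψ)
    (hx : LocRes.vDiff φ 1 x ≠ 0) (hx' : LocRes.vDiff ψ 1 (algebraMap K K' x) ≠ 0) :
    (Function.support fun i : ℕ => (Nat.card {σ : K' ≃ₐ[K] K' //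
        ∀ z : K', Q.1 z ≤ 1 → Q.1 (σ z - z) ≤ exp (-(i : ℤ))} : ℤ) - 1).Finite ∧
    LocRes.diffExp φ ψ e x = ∑ᶠ i : ℕ, if 1 ≤ i then
      (Nat.card {σ : K' ≃ₐ[K] K' // ∀ z : K', Q.1 z ≤ 1 → Q.1 (σ z - z) ≤ exp (-(i : ℤ))} : ℤ) - 1
      else 0 := by
  classical
  haveI := isSeparable_residueField (φ := φ) h hg hψ hx hx'
  obtain ⟨t, ht⟩ := hφ.2.2
  have h1 := vDiff_uniformizer hφ ht
  obtain ⟨hne, hind⟩ := diffExp_independent h hg he hφ hψ hx (x' := t) (by rw [h1]; exact one_ne_zero) hx'
  obtain ⟨s, hs0, hs⟩ := FunField.exists_uniformizer Q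
  set G := ramGroup (K := K) Q 1 with hG
  have hcard : Nat.card G = e := card_ramGroup_one h he
  set T := IntermediateField.fixedField G
  obtain ⟨Q₁, hQ₁⟩ := totallyRamified_fixedField (K := K) (Q := Q) h
  rw [IntermediateField.finrank_fixedField_eq_card, hcard] at hQ₁
  have hepos := isOverWith_pos he
  have hT : ∀ r ∈ T, Q.1 r < 1 → Q.1 r ≤ exp (-(e : ℤ)) := fun r hr hlt => by
    have h2 := hQ₁ ⟨r, hr⟩
    change Q.1 r = _ at h2
    rw [h2] at hlt ⊢
    have h3 : Q₁.1 ⟨r, hr⟩ < 1 := not_le.1 fun hge => not_lt.2 (one_le_pow₀ hge) hlt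
    refine (pow_le_pow_left₀ zero_le ((lt_one_iff_le _).1 h3) e).trans_eq ?_
    rw [← exp_nsmul, nsmul_eq_mul, mul_neg_one]
  set δ := Valued.v (LocRes.D F' (ψ (algebraMap K K' t))) with hδ
  have hδ0 : δ ≠ 0 := by rwa [hδ, ← vDiff_one]
  have hQt : Q.1 (algebraMap K K' t) = exp (-(e : ℤ)) := by rw [he, ht, ← exp_nsmul, nsmul_eq_mul, mul_neg_one]
  have ht0 : algebraMap K K' t ≠ 0 := fun h0 => exp_ne_zero (by rw [← hQt, h0, map_zero])
  have hD : ∀ a ∈ T, Q.1 a ≤ 1 → Valued.v (LocRes.D F' (ψ a)) ≤ δ := fun a haT ha =>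
    val_D_inertia hψ h ht he (D_ne_zero_of_vDiff hne) T hT haT ha
  have hGv : ∀ σ ∈ G, Q.1 (σ s) = exp (-1 : ℤ) := fun σ hσ => by
    rw [(mem_ramGroup.1 hσ).val_apply (by omega), hs]
  let f : K'[X] := ∏ σ : G, (X - C (σ.1 s))
  have hfdeg : f.natDegree = e := by
    rw [natDegree_finsetProd_X_sub_C_eq_card, Finset.card_univ, ← Nat.card_eq_fintype_card, hcard]
  have hfix : ∀ n, f.coeff n ∈ T := fun n => by
    refine (IntermediateField.mem_fixedField_iff G _).2 fun τ hτ => ?_
    have h2 : f.map (τ : K' →+* K') = f := by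
      rw [Polynomial.map_prod]
      exact Fintype.prod_equiv (Equiv.mulLeft (⟨τ, hτ⟩ : G)) _ _ fun σ => by simp
    calc τ (f.coeff n) = (f.map (τ : K' →+* K')).coeff n := by rw [coeff_map]; rfl
      _ = f.coeff n := by rw [h2]
  have hco : ∀ n, Q.1 (f.coeff n) ≤ 1 ∧ (n < e → Q.1 (f.coeff n) < 1) := by
    let gO : Q.O[X] := ∏ σ : G, (X - C (⟨σ.1 s, (hGv _ σ.2).trans_le (exp_neg_le_one zero_le_one)⟩ : Q.O))
    have hgO : gO.map Q.O.subtype = f := by rw [Polynomial.map_prod]; simp [f]
    have hres : gO.map (IsLocalRing.residue Q.O) = X ^ e := by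
      rw [Polynomial.map_prod]
      simp only [Polynomial.map_sub, map_X, map_C]
      rw [Finset.prod_eq_pow_card (b := (X : (IsLocalRing.ResidueField Q.O)[X])), Finset.card_univ,
        ← Nat.card_eq_fintype_card, hcard]
      intro σ _
      rw [(residue_eq_zero_iff Q _).2 ((hGv _ σ.2).trans_lt (by rw [← exp_zero, exp_lt_exp]; norm_num)), map_zero,
        sub_zero]
    intro n
    rw [← hgO, coeff_map]
    refine ⟨(gO.coeff n).2, fun hn => ?_⟩
    rw [Q.O.subtype_apply, ← residue_eq_zero_iff, ← coeff_map, hres, coeff_X_pow, if_neg hn.ne]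
  have hc0 : Q.1 (f.coeff 0) = exp (-(e : ℤ)) := by
    rw [coeff_zero_eq_eval_zero, eval_prod, map_prod]
    simp only [eval_sub, eval_X, eval_C, zero_sub, Valuation.map_neg]
    rw [Finset.prod_congr rfl fun σ _ => hGv _ σ.2, Finset.prod_const, Finset.card_univ,
      ← Nat.card_eq_fintype_card, hcard, ← exp_nsmul, nsmul_eq_mul, mul_neg_one]
  have hD0 : Valued.v (LocRes.D F' (ψ (f.coeff 0))) = δ := by
    set u := f.coeff 0 / algebraMap K K' t
    have huT : u ∈ T := div_mem (hfix 0) (T.algebraMap_mem t)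
    have hu : Q.1 u = 1 := by rw [map_div₀, hc0, hQt, div_self exp_ne_zero]
    rw [show f.coeff 0 = algebraMap K K' t * u from (mul_div_cancel₀ _ ht0).symm, D_map_mul]
    have h5 : Valued.v (ψ u * LocRes.D F' (ψ (algebraMap K K' t))) = δ := by rw [map_mul, hψ.1, hu, one_mul]
    rw [Valuation.map_add_eq_of_lt_right _ ?_, h5]
    rw [h5, map_mul, hψ.1, hQt]
    refine lt_of_le_of_lt (mul_le_mul' le_rfl (hD u huT hu.le)) ?_
    exact mul_lt_of_lt_one_left (zero_lt_iff.2 hδ0) (by rw [← exp_zero, exp_lt_exp]; omega)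
  have hpow : ∀ n : ℕ, LocRes.D F' (ψ (s ^ n)) = ψ ((n : K') * s ^ (n - 1)) * LocRes.D F' (ψ s) := by
    intro n
    induction n with
    | zero => rw [pow_zero, Nat.cast_zero, zero_mul, map_zero, zero_mul, map_one, Derivation.map_one_eq_zero]
    | succ n ih =>
      rw [pow_succ, D_map_mul, ih]
      cases n with
      | zero => simp
      | succ m => simp only [Nat.add_sub_cancel, Nat.cast_succ, map_mul, map_add, map_one, map_pow]; ring
  have hf0 : f.eval s = 0 := by
    rw [eval_prod]
    exact Finset.prod_eq_zero (Finset.mem_univ (1 : G)) (by simp)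
  have hz : ψ (f.derivative.eval s) * LocRes.D F' (ψ s) +
      ∑ i ∈ Finset.range (e + 1), LocRes.D F' (ψ (f.coeff i)) * ψ (s ^ i) = 0 := by
    have h6 : LocRes.D F' (ψ (f.eval s)) = 0 := by rw [hf0, map_zero, map_zero]
    rw [eval_eq_sum_range, hfdeg] at h6
    simp only [map_sum] at h6
    have e2 : f.derivative.eval s = ∑ i ∈ Finset.range (e + 1), f.coeff i * ((i : K') * s ^ (i - 1)) := by
      conv_lhs => rw [f.as_sum_range' (e + 1) (by omega)]
      rw [map_sum, eval_finsetSum]
      refine Finset.sum_congr rfl fun i _ => ?_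
      rw [derivative_monomial, eval_monomial, mul_assoc]
    rw [e2, map_sum, Finset.sum_mul, ← Finset.sum_add_distrib]
    refine Eq.trans (Finset.sum_congr rfl fun i _ => ?_) h6
    rw [D_map_mul, hpow]
    simp only [map_mul]
    ring
  have hsum : Valued.v (∑ i ∈ Finset.range (e + 1), LocRes.D F' (ψ (f.coeff i)) * ψ (s ^ i)) = δ := by
    rw [Valuation.map_sum_eq_of_lt _ (j := 0) (Finset.mem_range.2 (by omega)) fun i hi => ?_]
    · rw [map_mul, hD0, pow_zero, map_one, map_one, mul_one]
    rw [Finset.mem_sdiff, Finset.mem_singleton, Finset.mem_range] at hi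
    rw [map_mul, map_mul, hD0, pow_zero, map_one, map_one, mul_one, hψ.1, map_pow, hs, ← exp_nsmul]
    refine lt_of_le_of_lt (mul_le_mul' (hD _ (hfix i) (hco i).1) le_rfl) ?_
    refine mul_lt_of_lt_one_right (zero_lt_iff.2 hδ0) ?_
    rw [← exp_zero, exp_lt_exp]; simp; omega
  have hmain : Q.1 (f.derivative.eval s) = δ := by
    have h3 := congrArg Valued.v (eq_neg_of_add_eq_zero_left hz)
    rw [Valuation.map_neg, map_mul, hψ.1, ← vDiff_one ψ s, vDiff_uniformizer hψ hs, mul_one, hsum] at h3
    exact h3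
  let S : Finset (K' ≃ₐ[K] K') := Finset.univ.filter fun σ => σ ∈ G ∧ σ ≠ 1
  have hder : f.derivative.eval s = ∏ σ ∈ (Finset.univ : Finset G).erase 1, (s - σ.1 s) := by
    rw [show f = (X - C ((1 : G).1 s)) * ∏ σ ∈ (Finset.univ : Finset G).erase 1, (X - C (σ.1 s)) from
      (Finset.mul_prod_erase _ _ (Finset.mem_univ _)).symm, derivative_mul, eval_add, eval_mul, eval_mul]
    simp [eval_prod]
  let i : (K' ≃ₐ[K] K') → ℕ := fun σ => (-log (Q.1 (σ s - s))).toNat
  have hi : ∀ σ ∈ G, σ ≠ 1 → Q.1 (σ s - s) = exp (-(i σ : ℤ)) := by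
    intro σ hσ hσ1
    have hne0 : σ s - s ≠ 0 := fun h0 => hσ1 (AlgEquiv.ext fun z => by
      have hall : ∀ n : ℕ, InG Q ((n : ℤ) + 1) σ := fun n =>
        (mem_iff_uniformizer hs (mem_ramGroup.1 hσ) (by omega)).2 (by rw [h0, map_zero]; exact zero_le)
      have hfixle : ∀ z : K', Q.1 z ≤ 1 → σ z = z := fun z hz => by
        by_contra hne'
        have hv0 : Q.1 (σ z - z) ≠ 0 := (Valuation.ne_zero_iff _).2 (sub_ne_zero.2 hne')
        have h7 := hall (-log (Q.1 (σ z - z))).toNat z hz
        rw [← log_le_iff_le_exp hv0] at h7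
        omega
      rcases le_total (Q.1 z) 1 with hz | hz
      · exact hfixle z hz
      · have h8 := hfixle z⁻¹ (by rw [map_inv₀]; exact inv_le_one_of_one_le₀ hz)
        rw [map_inv₀, inv_inj] at h8
        exact h8)
    have hv0 : Q.1 (σ s - s) ≠ 0 := (Valuation.ne_zero_iff _).2 hne0
    have h9 : Q.1 (σ s - s) ≤ exp 0 := by
      refine (Q.1.map_sub _ _).trans (max_le ?_ ?_)
      · rw [hGv σ hσ, exp_le_exp]; norm_num
      · rw [hs, exp_le_exp]; norm_num
    have h10 := (log_le_iff_le_exp hv0).2 h9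
    rw [← exp_log hv0, exp_inj]
    simp only [i]
    omega
  have hsumi : ((∑ σ ∈ S, i σ : ℕ) : ℤ) = LocRes.diffExp φ ψ e x := by
    rw [hind, LocRes.diffExp, LocRes.ordDiff, LocRes.ordDiff, h1, log_one, neg_zero, mul_zero, sub_zero, vDiff_one,
      ← hδ, ← hmain, hder, map_prod]
    have h11 : ∏ σ ∈ (Finset.univ : Finset G).erase 1, Q.1 (s - σ.1 s) = ∏ σ ∈ S, exp (-(i σ : ℤ)) := by
      refine Finset.prod_bij (fun σ _ => σ.1) (fun σ hσ => ?_) (fun a _ b _ hab => Subtype.ext hab)
        (fun σ hσ => ?_) fun σ hσ => ?_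
      · simp only [S, Finset.mem_filter, Finset.mem_univ, true_and]
        exact ⟨σ.2, fun h1 => (Finset.mem_erase.1 hσ).1 (Subtype.ext h1)⟩
      · simp only [S, Finset.mem_filter, Finset.mem_univ, true_and] at hσ
        exact ⟨⟨σ, hσ.1⟩, Finset.mem_erase.2 ⟨fun h1 => hσ.2 (congrArg Subtype.val h1), Finset.mem_univ _⟩, rfl⟩
      · rw [Valuation.map_sub_swap, hi σ.1 σ.2 fun h1 => (Finset.mem_erase.1 hσ).1 (Subtype.ext h1)]
    rw [h11]
    have h12 : ∀ A : Finset (K' ≃ₐ[K] K'), log (∏ σ ∈ A, exp (-(i σ : ℤ))) = -((∑ σ ∈ A, i σ : ℕ) : ℤ) := by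
      intro A
      induction A using Finset.induction_on with
      | empty => simp
      | insert a A haA ih =>
        rw [Finset.prod_insert haA, log_mul exp_ne_zero (Finset.prod_ne_zero_iff.2 fun _ _ => exp_ne_zero), ih,
          log_exp, Finset.sum_insert haA]
        push_cast; ring
    rw [h12, neg_neg]
  have hcount : ∀ j : ℕ, 1 ≤ j → (Nat.card {σ : K' ≃ₐ[K] K' //
      ∀ z : K', Q.1 z ≤ 1 → Q.1 (σ z - z) ≤ exp (-(j : ℤ))} : ℤ) - 1 =
      ((S.filter fun σ => j ≤ i σ).card : ℤ) := by
    intro j hj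
    have hset : (Finset.univ.filter fun σ : K' ≃ₐ[K] K' => InG Q (j : ℤ) σ) = insert 1 (S.filter fun σ => j ≤ i σ) := by
      ext σ
      simp only [S, Finset.mem_filter, Finset.mem_univ, true_and, Finset.mem_insert]
      constructor
      · intro hσ
        by_cases hσ1 : σ = 1
        · exact Or.inl hσ1
        · have hσG : σ ∈ G := mem_ramGroup.2 (hσ.mono (by omega))
          have h13 := (mem_iff_uniformizer hs (mem_ramGroup.1 hσG) (by omega)).1 hσ
          rw [hi σ hσG hσ1, exp_le_exp] at h13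
          exact Or.inr ⟨⟨hσG, hσ1⟩, by omega⟩
      · rintro (rfl | ⟨⟨hσG, hσ1⟩, hle⟩)
        · exact InG.one _
        · refine (mem_iff_uniformizer hs (mem_ramGroup.1 hσG) (by omega)).2 ?_
          rw [hi σ hσG hσ1, exp_le_exp]; omega
    have : Nat.card {σ : K' ≃ₐ[K] K' // InG Q (j : ℤ) σ} = (S.filter fun σ => j ≤ i σ).card + 1 := by
      rw [Nat.card_eq_fintype_card, Fintype.card_subtype, hset, Finset.card_insert_of_notMem (by simp [S])]
    change (Nat.card {σ : K' ≃ₐ[K] K' // InG Q (j : ℤ) σ} : ℤ) - 1 = _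
    rw [this]; push_cast; ring
  set N := ∑ σ ∈ S, i σ
  have hN : ∀ σ ∈ S, i σ ≤ N := fun σ hσ => Finset.single_le_sum (f := i) (fun _ _ => Nat.zero_le _) hσ
  constructor
  · refine (Finset.range (N + 1)).finite_toSet.subset fun j hj => ?_
    by_contra hjN
    simp only [Finset.coe_range, Set.mem_Iio, not_lt] at hjN
    refine hj ?_
    show (_ : ℤ) - 1 = 0
    rw [hcount j (by omega), Finset.filter_false_of_mem fun σ hσ => by have := hN σ hσ; omega]
    simp
  · rw [← hsumi, finsum_eq_sum_of_support_subset (s := Finset.Icc 1 N) _ ?_]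
    · rw [Finset.sum_congr rfl fun j hj => by rw [if_pos (Finset.mem_Icc.1 hj).1, hcount j (Finset.mem_Icc.1 hj).1]]
      rw [← Nat.cast_sum]
      congr 1
      simp only [Finset.card_filter]
      rw [Finset.sum_comm]
      refine Finset.sum_congr rfl fun σ hσ => ?_
      rw [← Finset.card_filter, show ((Finset.Icc 1 N).filter fun j => j ≤ i σ) = Finset.Icc 1 (i σ) from ?_,
        Nat.card_Icc, Nat.add_sub_cancel]
      ext j
      have := hN σ hσ
      simp only [Finset.mem_filter, Finset.mem_Icc]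
      omega
    · intro j hj
      rw [Function.mem_support] at hj
      simp only [Finset.coe_Icc, Set.mem_Icc]
      by_cases h1j : 1 ≤ j
      · rw [if_pos h1j, hcount j h1j] at hj
        refine ⟨h1j, ?_⟩
        by_contra hjN
        rw [Finset.filter_false_of_mem fun σ hσ => by have := hN σ hσ; omega] at hj
        simp at hj
      · rw [if_neg h1j] at hj; exact absurd rfl hj

end Groth.Agent.DiffExp28
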