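import Groth.Agent.Lib.DiffExp28.Eisen
import Groth.Agent.Lib.FunField.Approx
import Mathlib.RingTheory.DedekindDomain.Different
import Mathlib.RingTheory.Valuation.Extension

/-! # The different exponent at a place of residue degree one -/

set_option autoImplicit false
set_option linter.style.haveILetI false

namespace Groth.Agent.DiffExp28

open FunFld WithZero Polynomial GeomFF26 FunField
open scoped Multiplicative Pointwise

universe u v w

variable {k : Type u} {K K' : Type v} [Field k] [Field K] [Field K'] [Algebra k K] [Algebra K K'] [Algebra k K']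
  [IsScalarTower k K K'] [FiniteDimensional K K']
  {P : Place k K} {Q : Place k K'} {e : ℕ}

/-- `O_Q` has the residue field of `O_P`. -/
def ResTriv (Q : Place k K') (P : Place k K) : Prop :=
  ∀ z : K', Q.1 z ≤ 1 → ∃ a : P.O, Q.1 (z - algebraMap K K' (a : K)) < 1

omit [IsScalarTower k K K'] [FiniteDimensional K K'] in
theorem resTriv_of_surjective [P.1.HasExtension Q.1]
    (hf : Function.Surjective (algebraMap (IsLocalRing.ResidueField P.O) (IsLocalRing.ResidueField Q.O))) :
    ResTriv Q P := fun z hz => by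
  obtain ⟨y, hy⟩ := hf (IsLocalRing.residue Q.O ⟨z, hz⟩)
  obtain ⟨a, rfl⟩ := IsLocalRing.residue_surjective y
  refine ⟨a, ?_⟩
  have h0 : IsLocalRing.residue Q.O (⟨z, hz⟩ - algebraMap P.O Q.O a) = 0 := by
    rw [map_sub, ← hy]
    exact sub_eq_zero.2 rfl
  exact (FunField.residue_eq_zero_iff Q (⟨z, hz⟩ - algebraMap P.O Q.O a : Q.O)).1 h0

variable [Algebra P.O K'] [IsScalarTower P.O K K']

omit [IsScalarTower k K K'] [FiniteDimensional K K'] in
theorem algebraMap_O (a : P.O) : algebraMap P.O K' a = algebraMap K K' (a : K) :=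
  IsScalarTower.algebraMap_apply P.O K K' a

omit [IsScalarTower k K K'] [FiniteDimensional K K'] in
theorem val_algebraMap_O_le (he : IsOverWith Q P e) (a : P.O) : Q.1 (algebraMap P.O K' a) ≤ 1 := by
  rw [algebraMap_O, he]
  exact pow_le_one₀ zero_le a.2

variable (k) in
/-- A uniformizer at `Q` which is a unit at the other places over `P`. -/
def Good (Q : Place k K') (P : Place k K) (s : K') : Prop :=
  Q.1 s = exp (-1 : ℤ) ∧ ∀ Q' : Place k K', IsOver Q' P → Q' ≠ Q → Q'.1 s = 1

omit [Algebra P.O K'] [IsScalarTower P.O K K'] in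
theorem exists_good (h : FunField.FF k K) (he : IsOverWith Q P e) : ∃ s, Good k Q P s := by
  classical
  set S := (finite_fibre (K' := K') h P).toFinset
  obtain ⟨y, hy⟩ := weak_approx_eq S (fun _ => 0) (fun R => if R = Q then 1 else 0)
  refine ⟨y, ?_, fun Q' hQ' hne => ?_⟩
  · have := hy Q ((finite_fibre h P).mem_toFinset.2 ⟨e, he⟩)
    simpa using this
  · have := hy Q' ((finite_fibre h P).mem_toFinset.2 hQ')
    simpa [hne] using this

theorem isIntegral_of_good (h : FunField.FF k K) {s : K'} (hs : Good k Q P s) : IsIntegral P.O s :=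
  (isIntegral_iff h P s).2 fun Q' hQ' => by
    by_cases hne : Q' = Q
    · subst hne; rw [hs.1, ← exp_zero, exp_le_exp]; norm_num
    · exact (hs.2 Q' hQ' hne).le

/-- A conductor element of `O_P[s]` which is a unit at `Q`. -/
theorem exists_conductor (h : FunField.FF k K) (he : IsOverWith Q P e) (hres : ResTriv Q P) {s : K'}
    (hs : Good k Q P s) :
    ∃ b ∈ Algebra.adjoin P.O ({s} : Set K'), Q.1 b = 1 ∧
      ∀ r : K', IsIntegral P.O r → b * r ∈ Algebra.adjoin P.O ({s} : Set K') := by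
  set A := Algebra.adjoin P.O ({s} : Set K') with hA
  let R₀ : Submodule P.O K' := Subalgebra.toSubmodule (integralClosure P.O K')
  have hsA : s ∈ A := Algebra.self_mem_adjoin_singleton _ _
  have hsR := isIntegral_of_good h hs
  have hAR : ∀ a ∈ A, IsIntegral P.O a := fun a ha =>
    (Algebra.adjoin_le (show ({s} : Set K') ⊆ integralClosure P.O K' from Set.singleton_subset_iff.2 hsR)) ha
  let R : Submodule A K' :=
    { carrier := {z | IsIntegral P.O z}
      add_mem' := fun {x y} hx hy => hx.add hy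
      zero_mem' := isIntegral_zero
      smul_mem' := fun a x hx => (hAR a.1 a.2).mul hx }
  have hR : R.FG := by
    haveI := finite_integralClosure (K' := K') h P
    obtain ⟨T, hT⟩ := (Module.Finite.iff_fg (N := R₀)).1 this
    refine ⟨T, le_antisymm (Submodule.span_le.2 fun x hx => ?_) fun x hx => ?_⟩
    · exact (hT.le (Submodule.subset_span hx) : x ∈ R₀)
    · have hx' : x ∈ R₀ := hx
      rw [← hT] at hx'
      exact Submodule.span_le_restrictScalars P.O A _ hx'
  let N : Submodule A K' := LinearMap.range (Algebra.linearMap A K')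
  let q := N.mkQ
  let I : Ideal A := Ideal.span {(⟨s, hsA⟩ : A)}
  have hs0 : s ≠ 0 := fun h0 => exp_ne_zero (hs.1.symm.trans (by rw [h0, map_zero]))
  have hle : R.map q ≤ I • R.map q := by
    rintro _ ⟨r, hr, rfl⟩
    have hr1 : Q.1 r ≤ 1 := (isIntegral_iff h P r).1 hr Q ⟨e, he⟩
    obtain ⟨a, ha⟩ := hres r hr1
    have hint : IsIntegral P.O ((r - algebraMap P.O K' a) / s) := (isIntegral_iff h P _).2 fun Q' hQ' => by
      rw [map_div₀]
      by_cases hne : Q' = Q
      · subst hne
        rw [algebraMap_O, hs.1, div_le_one₀ (exp_pos)]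
        exact (lt_one_iff_le _).1 ha
      · rw [hs.2 Q' hQ' hne, div_one]
        exact (isIntegral_iff h P _).1 (hr.sub isIntegral_algebraMap) Q' hQ'
    have e1 : q r = (⟨s, hsA⟩ : A) • q ((r - algebraMap P.O K' a) / s) := by
      rw [← map_smul]
      refine (Submodule.Quotient.eq N).2 ⟨algebraMap P.O A a, ?_⟩
      show algebraMap P.O K' a = r - s * ((r - algebraMap P.O K' a) / s)
      rw [mul_div_cancel₀ _ hs0, sub_sub_cancel]
    rw [e1]
    exact Submodule.smul_mem_smul (Ideal.mem_span_singleton_self _) (Submodule.mem_map_of_mem hint)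
  obtain ⟨b, hbI, hb⟩ := Submodule.exists_sub_one_mem_and_smul_eq_zero_of_fg_of_le_smul I (R.map q) (hR.map q) hle
  refine ⟨b.1, b.2, ?_, fun r hr => ?_⟩
  · obtain ⟨c, hc⟩ := Ideal.mem_span_singleton'.1 hbI
    have hc' : c.1 * s = b.1 - 1 := congrArg Subtype.val hc
    have hlt : Q.1 (b.1 - 1) < 1 := by
      rw [← hc', map_mul, hs.1]
      refine lt_of_le_of_lt (mul_le_of_le_one_left zero_le ((isIntegral_iff h P _).1 (hAR _ c.2) Q ⟨e, he⟩)) ?_
      rw [← exp_zero, exp_lt_exp]; norm_num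
    rw [show b.1 = 1 + (b.1 - 1) by ring, Valuation.map_add_eq_of_lt_left _ (by rwa [map_one]), map_one]
  · have h0 := hb (q r) (Submodule.mem_map_of_mem hr)
    rw [← map_smul] at h0
    obtain ⟨a, ha⟩ := (Submodule.Quotient.mk_eq_zero N).1 h0
    have ha' : a.1 = b.1 * r := ha
    exact ha' ▸ a.2

/-- `O_Q` is the localization of `O_P[s]`. -/
theorem exists_frac (h : FunField.FF k K) (he : IsOverWith Q P e) (hres : ResTriv Q P) {s : K'}
    (hs : Good k Q P s) {z : K'} (hz : Q.1 z ≤ 1) :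
    ∃ a ∈ Algebra.adjoin P.O ({s} : Set K'), ∃ b ∈ Algebra.adjoin P.O ({s} : Set K'), Q.1 b = 1 ∧ z * b = a := by
  classical
  obtain ⟨b, hbA, hb1, hb⟩ := exists_conductor h he hres hs
  set S := (finite_fibre (K' := K') h P).toFinset
  obtain ⟨u, hu1, hu⟩ := exists_near_one_near_zero Q (S.erase Q) (Finset.notMem_erase _ _)
    (1 + ∑ R ∈ S, (-R.ord z).toNat)
  have huQ : Q.1 u = 1 := by
    have hlt : Q.1 (u - 1) < 1 := hu1.trans_lt (by rw [← exp_zero, exp_lt_exp]; omega)
    rw [show u = 1 + (u - 1) by ring, Valuation.map_add_eq_of_lt_left _ (by rwa [map_one]), map_one]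
  have hsmall : ∀ Q', IsOver Q' P → Q' ≠ Q → Q'.1 u ≤ 1 ∧ Q'.1 (u * z) ≤ 1 := fun Q' hQ' hne => by
    have hmem : Q' ∈ S := (finite_fibre h P).mem_toFinset.2 hQ'
    have h1 := hu Q' (Finset.mem_erase.2 ⟨hne, hmem⟩)
    refine ⟨h1.trans (by rw [← exp_zero, exp_le_exp]; omega), ?_⟩
    by_cases hz0 : z = 0
    · simp [hz0]
    rw [map_mul]
    refine (mul_le_mul_left h1 _).trans ?_
    rw [val_eq_exp_neg_ord Q' hz0, ← exp_add, ← exp_zero, exp_le_exp]
    have h2 : (-Q'.ord z).toNat ≤ ∑ R ∈ S, (-R.ord z).toNat :=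
      Finset.single_le_sum (f := fun R : Place k K' => (-R.ord z).toNat) (fun _ _ => Nat.zero_le _) hmem
    omega
  have hu' : IsIntegral P.O u := (isIntegral_iff h P u).2 fun Q' hQ' => by
    by_cases hne : Q' = Q
    · subst hne; exact huQ.le
    · exact (hsmall Q' hQ' hne).1
  have huz : IsIntegral P.O (u * z) := (isIntegral_iff h P _).2 fun Q' hQ' => by
    by_cases hne : Q' = Q
    · subst hne; rw [map_mul, huQ, one_mul]; exact hz
    · exact (hsmall Q' hQ' hne).2
  exact ⟨b * (u * z), hb _ huz, b * u, hb _ hu', by rw [map_mul, hb1, huQ, one_mul], by ring⟩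

theorem adjoin_eq_top (h : FunField.FF k K) (he : IsOverWith Q P e) (hres : ResTriv Q P) {s : K'}
    (hs : Good k Q P s) : IntermediateField.adjoin K ({s} : Set K') = ⊤ := by
  set L := IntermediateField.adjoin K ({s} : Set K')
  have hA : ∀ a ∈ Algebra.adjoin P.O ({s} : Set K'), a ∈ L := fun a ha =>
    (Algebra.adjoin_le (S := L.toSubalgebra.restrictScalars P.O)
      (Set.singleton_subset_iff.2 (IntermediateField.mem_adjoin_simple_self K s))) ha
  have hmem : ∀ z : K', Q.1 z ≤ 1 → z ∈ L := fun z hz => by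
    obtain ⟨a, ha, b, hb, hb1, hab⟩ := exists_frac h he hres hs hz
    have hb0 : b ≠ 0 := fun h0 => by simp [h0] at hb1
    rw [eq_div_iff hb0 |>.2 hab]
    exact div_mem (hA a ha) (hA b hb)
  refine top_le_iff.1 fun z _ => ?_
  rcases le_total (Q.1 z) 1 with hz | hz
  · exact hmem z hz
  · have := hmem z⁻¹ (by rw [map_inv₀]; exact inv_le_one_of_one_le₀ hz)
    simpa using inv_mem this

/-- The differential of the value of a polynomial. -/
theorem D_aeval {F : Type w} [Field F] [Algebra k F] {F' : Type w} [Field F'] [Algebra k F']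
    (φ : K →ₐ[k] LaurentSeries F) (hφ : LocRes.IsExpansionAt P.1 φ)
    (ψ : K' →ₐ[k] LaurentSeries F') {t : K} (hsep : Wronskian26.Sep k t) (ht : P.1 t = exp (-1 : ℤ)) :
    ∃ d : K → K, (∀ a, Valued.v (LocRes.D F (φ a)) = P.1 (d a)) ∧ ∀ (y : K') (g : K[X]),
      LocRes.D F' (ψ (aeval y g)) = ψ (aeval y (derivative g)) * LocRes.D F' (ψ y) +
        ψ (∑ i ∈ Finset.range (g.natDegree + 1), algebraMap K K' (d (g.coeff i)) * y ^ i) *
          LocRes.D F' (ψ (algebraMap K K' t)) := by
  let d : K → K := fun a => Classical.choose (exists_chain.{u, v, w} hsep a)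
  have hc' : ∀ a : K, LocRes.D F' (ψ (algebraMap K K' a)) =
      ψ (algebraMap K K' (d a)) * LocRes.D F' (ψ (algebraMap K K' t)) := fun a => by
    have := Classical.choose_spec (exists_chain.{u, v, w} hsep a) (ψ.comp (IsScalarTower.toAlgHom k K K'))
    simpa only [AlgHom.comp_apply, IsScalarTower.toAlgHom_apply] using this
  refine ⟨d, fun a => ?_, fun y g => ?_⟩
  · rw [Classical.choose_spec (exists_chain.{u, v, w} hsep a) φ, map_mul, ← vDiff_one,
      vDiff_uniformizer hφ ht, mul_one, hφ.1]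
  have hpow : ∀ n : ℕ, LocRes.D F' (ψ (y ^ n)) = ψ ((n : K') * y ^ (n - 1)) * LocRes.D F' (ψ y) := by
    intro n
    induction n with
    | zero => rw [pow_zero, Nat.cast_zero, zero_mul, map_zero, zero_mul, map_one, Derivation.map_one_eq_zero]
    | succ n ih =>
      rw [pow_succ, D_map_mul, ih]
      cases n with
      | zero => simp
      | succ m => simp only [Nat.add_sub_cancel, Nat.cast_succ, map_mul, map_add, map_one, map_pow]; ring
  have e1 : aeval y g = ∑ i ∈ Finset.range (g.natDegree + 1), algebraMap K K' (g.coeff i) * y ^ i := by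
    rw [aeval_eq_sum_range]; simp [Algebra.smul_def]
  have e2 : aeval y (derivative g) =
      ∑ i ∈ Finset.range (g.natDegree + 1), algebraMap K K' (g.coeff i) * ((i : K') * y ^ (i - 1)) := by
    conv_lhs => rw [g.as_sum_range' (g.natDegree + 1) (Nat.lt_succ_self _)]
    rw [map_sum, map_sum]
    refine Finset.sum_congr rfl fun i _ => ?_
    rw [derivative_monomial, aeval_monomial, map_mul, map_natCast, mul_assoc]
  rw [e1, e2]
  simp only [map_sum, Finset.sum_mul, ← Finset.sum_add_distrib]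
  refine Finset.sum_congr rfl fun i _ => ?_
  rw [D_map_mul, hpow i, hc' (g.coeff i)]
  simp only [map_mul]
  ring

omit [Algebra P.O K'] [IsScalarTower P.O K K'] [IsScalarTower k K K'] [FiniteDimensional K K'] in
theorem val_D_le_one {F : Type w} [Field F] [Algebra k F] {φ : K →ₐ[k] LaurentSeries F}
    (hφ : LocRes.IsExpansionAt P.1 φ) {a : K} (ha : P.1 a ≤ 1) : Valued.v (LocRes.D F (φ a)) ≤ 1 := by
  rcases ha.lt_or_eq with h1 | h1
  · simpa using val_D_le (φ a) (n := 1) (by rw [hφ.1]; exact (lt_one_iff_le _).1 h1)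
  · simpa using (val_D_of_val_eq (φ a) (n := 0) (by rw [hφ.1, h1]; simp)).2 (by simp)

variable (P) in
theorem coeff_minpoly_le_one {y : K'} (hy : IsIntegral P.O y) (i : ℕ) : P.1 ((minpoly K y).coeff i) ≤ 1 := by
  rw [minpoly.isIntegrallyClosed_eq_field_fractions' K hy, coeff_map]
  exact ((minpoly P.O y).coeff i).2

omit [IsScalarTower k K K'] [FiniteDimensional K K'] [Algebra P.O K'] [IsScalarTower P.O K K'] in
theorem val_eq_one_of_pow {x : WithZero (Multiplicative ℤ)} (he : 0 < e) (h : x ^ e = 1) : x = 1 := by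
  have hx : x ≠ 0 := fun h0 => by rw [h0, zero_pow he.ne'] at h; exact zero_ne_one h
  have h2 := congrArg log h
  rw [log_pow, log_one, nsmul_eq_mul, mul_eq_zero] at h2
  rw [← exp_log hx, h2.resolve_left (by exact_mod_cast he.ne'), exp_zero]

theorem val_const_coeff_minpoly (h : FunField.FF k K) (he : IsOverWith Q P e) (hres : ResTriv Q P) {s : K'}
    (hs : Good k Q P s) : P.1 ((minpoly K s).coeff 0) = exp (-1 : ℤ) := by
  have hepos := isOverWith_pos he
  have hint := isIntegral_of_good h hs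
  obtain ⟨t, ht0, ht⟩ := exists_uniformizer P
  let tO : P.O := ⟨t, show P.1 t ≤ 1 by rw [ht, ← exp_zero, exp_le_exp]; norm_num⟩
  have hs0 : s ≠ 0 := fun h0 => exp_ne_zero (hs.1.symm.trans (by rw [h0, map_zero]))
  have hz : Q.1 (algebraMap K K' t / s ^ e) = 1 := by
    rw [map_div₀, map_pow, hs.1, he, ht, div_self (pow_ne_zero _ exp_ne_zero)]
  obtain ⟨a, ha, b, hb, hb1, hab⟩ := exists_frac h he hres hs hz.le
  rw [Algebra.adjoin_singleton_eq_range_aeval] at ha hb
  obtain ⟨pa, rfl⟩ := ha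
  obtain ⟨pb, rfl⟩ := hb
  change Q.1 (aeval s pb) = 1 at hb1
  change algebraMap K K' t / s ^ e * aeval s pb = aeval s pa at hab
  let G : P.O[X] := X ^ e * pa - C tO * pb
  have hG : aeval s G = 0 := by
    have h2 : algebraMap K K' t * aeval s pb = s ^ e * aeval s pa := by rw [← hab]; field_simp
    rw [map_sub, map_mul, map_mul, map_pow, aeval_X, aeval_C, algebraMap_O, ← h2]
    exact sub_self _
  haveI : Module.IsTorsionFree P.O K' := by
    rw [Module.isTorsionFree_iff_algebraMap_injective, IsScalarTower.algebraMap_eq P.O K K']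
    exact (algebraMap K K').injective.comp (IsFractionRing.injective P.O K)
  obtain ⟨c, hc⟩ := minpoly.isIntegrallyClosed_dvd hint hG
  have hpb : P.1 (pb.coeff 0 : K) = 1 := by
    refine val_eq_one_of_pow hepos ?_
    rw [← he, ← algebraMap_O]
    have h3 := congrArg (aeval s) (X_mul_divX_add pb)
    rw [map_add, map_mul, aeval_X, aeval_C] at h3
    have h4 : Q.1 (s * aeval s pb.divX) < 1 := by
      rw [map_mul, hs.1]
      refine lt_of_le_of_lt (mul_le_of_le_one_right zero_le ((isIntegral_iff h P _).1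
        (Algebra.adjoin_le (show ({s} : Set K') ⊆ integralClosure P.O K' from Set.singleton_subset_iff.2 hint)
          (aeval_mem_adjoin_singleton _ _)) Q ⟨e, he⟩)) ?_
      rw [← exp_zero, exp_lt_exp]; norm_num
    rw [show algebraMap P.O K' (pb.coeff 0) = aeval s pb - s * aeval s pb.divX from eq_sub_of_add_eq' h3,
      Valuation.map_sub_eq_of_lt_left _ (by rwa [hb1]), hb1]
  have h0 : P.1 ((minpoly P.O s).coeff 0 : K) < 1 := by
    by_contra hge
    have h1 : P.1 ((minpoly P.O s).coeff 0 : K) = 1 := le_antisymm ((minpoly P.O s).coeff 0).2 (not_lt.1 hge)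
    have h3 := congrArg (aeval s) (X_mul_divX_add (minpoly P.O s))
    rw [map_add, map_mul, aeval_X, aeval_C, minpoly.aeval] at h3
    have h4 : Q.1 (algebraMap P.O K' ((minpoly P.O s).coeff 0)) = 1 := by rw [algebraMap_O, he, h1, one_pow]
    rw [eq_neg_of_add_eq_zero_right h3, Valuation.map_neg, map_mul, hs.1] at h4
    refine absurd h4 (ne_of_lt (lt_of_le_of_lt (mul_le_of_le_one_right zero_le ((isIntegral_iff h P _).1
      (Algebra.adjoin_le (show ({s} : Set K') ⊆ integralClosure P.O K' from Set.singleton_subset_iff.2 hint)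
        (aeval_mem_adjoin_singleton _ _)) Q ⟨e, he⟩)) ?_))
    rw [← exp_zero, exp_lt_exp]; norm_num
  have hcoef := congrArg (fun p : P.O[X] => ((p.coeff 0 : P.O) : K)) hc
  simp only [G, coeff_sub, mul_coeff_zero, coeff_X_pow, hepos.ne, if_false, zero_mul, coeff_C_zero, zero_sub,
    NegMemClass.coe_neg, MulMemClass.coe_mul] at hcoef
  have h5 := congrArg P.1 hcoef
  rw [Valuation.map_neg, map_mul, map_mul, hpb, mul_one, show P.1 (tO : K) = exp (-1 : ℤ) from ht] at h5
  rw [minpoly.isIntegrallyClosed_eq_field_fractions' K hint, coeff_map]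
  refine le_antisymm ((lt_one_iff_le _).1 h0) (h5.le.trans ?_)
  exact mul_le_of_le_one_right zero_le (c.coeff 0).2

variable {F : Type w} [Field F] [Algebra k F] {F' : Type w} [Field F'] [Algebra k F']
  {φ : K →ₐ[k] LaurentSeries F} {ψ : K' →ₐ[k] LaurentSeries F'} {x : K}

theorem ord_derivative_of_good (h : FunField.FF k K) (hg : IsGeometric k K) (he : IsOverWith Q P e)
    (hφ : LocRes.IsExpansionAt P.1 φ) (hψ : LocRes.IsExpansionAt Q.1 ψ)
    (hx : LocRes.vDiff φ 1 x ≠ 0) (hx' : LocRes.vDiff ψ 1 (algebraMap K K' x) ≠ 0) (hres : ResTriv Q P) {s : K'}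
    (hs : Good k Q P s) :
    Q.1 (aeval s (derivative (minpoly K s))) = exp (-LocRes.diffExp φ ψ e x) := by
  obtain ⟨t, ht⟩ := hφ.2.2
  have h1 := vDiff_uniformizer hφ ht
  obtain ⟨hne, hind⟩ := diffExp_independent h hg he hφ hψ hx (x' := t) (by rw [h1]; exact one_ne_zero) hx'
  have hsep := (sep_iff_D_ne_zero h hg t).2
    (D_ne_zero_of_D_map φ (D_ne_zero_of_vDiff (φ := φ) (x := t) (by rw [h1]; exact one_ne_zero)))
  obtain ⟨d, hd, hD⟩ := D_aeval φ hφ ψ hsep ht
  have hint := isIntegral_of_good h hs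
  set f := minpoly K s
  have hz := hD s f
  rw [minpoly.aeval, map_zero, map_zero] at hz
  set σ : K' := ∑ i ∈ Finset.range (f.natDegree + 1), algebraMap K K' (d (f.coeff i)) * s ^ i with hσ
  have hd0 : P.1 (d (f.coeff 0)) = 1 := by
    rw [← hd, (val_D_of_val_eq (φ (f.coeff 0)) (n := 1)
      ((hφ.1 _).trans (val_const_coeff_minpoly h he hres hs))).1 (by simp)]
    simp
  have hσv : Q.1 σ = 1 := by
    classical
    rw [hσ, Valuation.map_sum_eq_of_lt _ (j := 0) (Finset.mem_range.2 (by omega)) fun i hi => ?_]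
    · rw [pow_zero, mul_one, he, hd0, one_pow]
    rw [Finset.mem_sdiff, Finset.mem_singleton] at hi
    rw [map_mul, map_pow, he, hs.1, pow_zero, mul_one, he, hd0, one_pow, ← exp_nsmul]
    refine lt_of_le_of_lt (mul_le_of_le_one_left zero_le (pow_le_one₀ zero_le ?_)) ?_
    · rw [← hd]; exact val_D_le_one hφ (coeff_minpoly_le_one P hint i)
    · rw [← exp_zero, exp_lt_exp]; simp; omega
  have hδs : Valued.v (LocRes.D F' (ψ s)) = 1 := (vDiff_one ψ s).symm.trans (vDiff_uniformizer hψ hs.1)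
  have h3 := congrArg Valued.v (eq_neg_of_add_eq_zero_left hz.symm)
  rw [Valuation.map_neg, map_mul, map_mul, hψ.1, hψ.1, hδs, mul_one, hσv, one_mul, ← vDiff_one] at h3
  rw [hind, LocRes.diffExp, LocRes.ordDiff, LocRes.ordDiff, h1, log_one, neg_zero, mul_zero, sub_zero, neg_neg,
    exp_log hne, h3]

theorem traceDual_iff [Algebra.IsSeparable K K'] {s : K'} (htop : IntermediateField.adjoin K ({s} : Set K') = ⊤)
    (hint : IsIntegral P.O s) (y : K') :
    (∀ a ∈ Algebra.adjoin P.O ({s} : Set K'), P.1 (Algebra.trace K K' (y * a)) ≤ 1) ↔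
      ∃ a ∈ Algebra.adjoin P.O ({s} : Set K'), y = (aeval s (derivative (minpoly K s)))⁻¹ * a := by
  have htop' : Algebra.adjoin K ({s} : Set K') = ⊤ := by
    rw [← IntermediateField.adjoin_simple_toSubalgebra_of_isAlgebraic (Algebra.IsAlgebraic.isAlgebraic s), htop]
    rfl
  have h := SetLike.ext_iff.1 (traceForm_dualSubmodule_adjoin P.O K htop' hint) y
  rw [LinearMap.BilinForm.mem_dualSubmodule] at h
  simp only [Algebra.traceForm_apply, Subalgebra.mem_toSubmodule] at h
  constructor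
  · intro hy
    have h2 := h.1 fun a ha => Submodule.mem_one.2 ⟨⟨_, hy a ha⟩, rfl⟩
    obtain ⟨a, ha, hae⟩ := Submodule.mem_smul_pointwise_iff_exists _ _ _ |>.1 h2
    exact ⟨a, ha, hae.symm⟩
  · rintro ⟨a, ha, rfl⟩ b hb
    obtain ⟨c, hc⟩ := Submodule.mem_one.1 (h.2 (Submodule.smul_mem_pointwise_smul a _ _ ha) b hb)
    rw [← hc]
    exact c.2

theorem min_val_traceDual [Algebra.IsSeparable K K'] (h : FunField.FF k K) (hg : IsGeometric k K)
    (he : IsOverWith Q P e) (hφ : LocRes.IsExpansionAt P.1 φ) (hψ : LocRes.IsExpansionAt Q.1 ψ)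
    (hx : LocRes.vDiff φ 1 x ≠ 0) (hx' : LocRes.vDiff ψ 1 (algebraMap K K' x) ≠ 0) (hres : ResTriv Q P) :
    (∀ y : K', (∀ z : K', IsIntegral P.O z → P.1 (Algebra.trace K K' (y * z)) ≤ 1) →
      Q.1 y ≤ exp (LocRes.diffExp φ ψ e x)) ∧
    ∃ y : K', (∀ z : K', IsIntegral P.O z → P.1 (Algebra.trace K K' (y * z)) ≤ 1) ∧
      Q.1 y = exp (LocRes.diffExp φ ψ e x) := by
  obtain ⟨s, hs⟩ := exists_good h he
  have htop := adjoin_eq_top h he hres hs
  have hint := isIntegral_of_good h hs
  have hf := ord_derivative_of_good h hg he hφ hψ hx hx' hres hs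
  have hAR : ∀ a ∈ Algebra.adjoin P.O ({s} : Set K'), IsIntegral P.O a := fun a ha =>
    (Algebra.adjoin_le (show ({s} : Set K') ⊆ integralClosure P.O K' from Set.singleton_subset_iff.2 hint)) ha
  constructor
  · intro y hy
    obtain ⟨a, ha, rfl⟩ := (traceDual_iff htop hint y).1 fun a ha => hy a (hAR a ha)
    rw [map_mul, map_inv₀, hf, ← exp_neg, neg_neg]
    exact mul_le_of_le_one_right zero_le ((isIntegral_iff h P _).1 (hAR a ha) Q ⟨e, he⟩)
  · obtain ⟨b, hb, hb1, hbR⟩ := exists_conductor h he hres hs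
    refine ⟨(aeval s (derivative (minpoly K s)))⁻¹ * b, fun z hz => ?_, ?_⟩
    · have := (traceDual_iff htop hint ((aeval s (derivative (minpoly K s)))⁻¹ * (b * z))).2
        ⟨_, hbR z hz, rfl⟩ 1 (one_mem _)
      rwa [mul_one, ← mul_assoc] at this
    · rw [map_mul, map_inv₀, hf, ← exp_neg, neg_neg, hb1, mul_one]

theorem diffExp_le_ord_derivative [Algebra.IsSeparable K K'] (h : FunField.FF k K) (hg : IsGeometric k K)
    (he : IsOverWith Q P e) (hφ : LocRes.IsExpansionAt P.1 φ) (hψ : LocRes.IsExpansionAt Q.1 ψ)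
    (hx : LocRes.vDiff φ 1 x ≠ 0) (hx' : LocRes.vDiff ψ 1 (algebraMap K K' x) ≠ 0) (hres : ResTriv Q P)
    {y : K'} (hy : IntermediateField.adjoin K ({y} : Set K') = ⊤) (hyi : IsIntegral P.O y) :
    LocRes.diffExp φ ψ e x ≤ Q.ord (aeval y (derivative (minpoly K y))) ∧
    (Q.ord (aeval y (derivative (minpoly K y))) = LocRes.diffExp φ ψ e x →
      ∀ z : K', Q.1 z ≤ 1 → ∃ a ∈ Algebra.adjoin P.O ({y} : Set K'), ∃ b ∈ Algebra.adjoin P.O ({y} : Set K'),
        Q.1 b = 1 ∧ z * b = a) := by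
  obtain ⟨-, y₀, hy₀, hv₀⟩ := min_val_traceDual h hg he hφ hψ hx hx' hres
  have hAR : ∀ a ∈ Algebra.adjoin P.O ({y} : Set K'), IsIntegral P.O a := fun a ha =>
    (Algebra.adjoin_le (show ({y} : Set K') ⊆ integralClosure P.O K' from Set.singleton_subset_iff.2 hyi)) ha
  set g' := aeval y (derivative (minpoly K y)) with hg'
  have hg0 : g' ≠ 0 :=
    (Algebra.IsSeparable.isSeparable K y).aeval_derivative_ne_zero (minpoly.aeval K y)
  have hmem : ∀ r : K', IsIntegral P.O r → g' * y₀ * r ∈ Algebra.adjoin P.O ({y} : Set K') := fun r hr => by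
    obtain ⟨a, ha, hae⟩ := (traceDual_iff hy hyi (y₀ * r)).1 fun a ha => by
      rw [mul_assoc]; exact hy₀ _ (hr.mul (hAR a ha))
    rw [mul_assoc, hae, mul_inv_cancel_left₀ hg0]
    exact ha
  have hu : Q.1 (g' * y₀) ≤ 1 :=
    (isIntegral_iff h P _).1 (hAR _ (by simpa using hmem 1 isIntegral_one)) Q ⟨e, he⟩
  rw [map_mul, hv₀, val_eq_exp_neg_ord Q hg0, ← exp_add] at hu
  refine ⟨by rw [← exp_zero, exp_le_exp] at hu; linarith, fun heq z hz => ?_⟩
  obtain ⟨s, hs⟩ := exists_good h he
  obtain ⟨a, ha, b, hb, hb1, hab⟩ := exists_frac h he hres hs hz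
  have hsR := isIntegral_of_good h hs
  have hAs : ∀ a ∈ Algebra.adjoin P.O ({s} : Set K'), IsIntegral P.O a := fun a ha =>
    (Algebra.adjoin_le (show ({s} : Set K') ⊆ integralClosure P.O K' from Set.singleton_subset_iff.2 hsR)) ha
  refine ⟨g' * y₀ * a, hmem a (hAs a ha), g' * y₀ * b, hmem b (hAs b hb), ?_, by rw [← hab]; ring⟩
  rw [map_mul, map_mul, hb1, mul_one, hv₀, val_eq_exp_neg_ord Q hg0, ← exp_add, heq, neg_add_cancel, exp_zero]

end Groth.Agent.DiffExp28
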